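import Cfsg.Agent.TH.Cl.B2.Mat
import Cfsg.Agent.TH.Cl.Cases.Sim
import Cfsg.Agent.TH.Tri
import Cfsg.Agent.TH.Sv.Defs
import Cfsg.Agent.GH.ETowerN

/-!
# S3541, `Sp₄(2^a)` with a graph automorphism (helper63)

`boxB2_of : BoxTri → Sv.BoxEl → Sims → BoxB2`.
-/

set_option autoImplicit false
set_option linter.unusedSectionVars false

namespace Cfsg.Agent.TH.Cl

open Cfsg.Agent.H88.FC Cfsg.Agent.H319.FC Cfsg.Agent.SB.B2 Cfsg.Agent.ClassicalGeometry.SympAutSemi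

namespace B2

section abs

variable {G : Type} [Group G] [Finite G] {T H E : Subgroup G} {m : ℕ}

/-- an involution which inverts `C_T(E)` and centralises no element of odd order has a small class -/
theorem loc_G (hEl : Sv.BoxEl) (hT : AS T) (hH : Half H m) (hd : ¬ 2 ∣ Nat.card H / m) (hE : E ≤ T)
    (hc : ∀ x ∈ E, ∀ y ∈ E, x * y = y * x) (hN : Subgroup.normalizer (E : Set G) = H) {τ : G} (hτ : τ ∈ T) (h1 : τ ≠ 1)
    (h2 : τ * τ = 1) (hinv : ∀ s ∈ T ⊓ Subgroup.centralizer (E : Set G), τ * s * τ⁻¹ = s⁻¹ ∧ Odd (orderOf s))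
    (hC : ∀ y ∈ T, Odd (orderOf y) → τ * y = y * τ → y = 1) :
    (Subgroup.centralizer {τ}).relIndex T ≤ Nat.card ↥(T ⊓ Subgroup.centralizer (E : Set G)) ^ 2 := by
  have hTn := hT.normal
  set S := T ⊓ Subgroup.centralizer (E : Set G) with hS
  have hES : E ≤ S := fun x hx => ⟨hE hx, fun y hy => hc y hy x hx⟩
  have hτH : τ ∈ H := by
    rw [← hN]
    exact Subgroup.mem_normalizer_fintype (S := (E : Set G)) fun x hx => by
      rw [(hinv x (hES hx)).1]; exact inv_mem hx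
  have hSn : ∀ h ∈ H, ∀ s ∈ S, h * s * h⁻¹ ∈ S := fun h hh s hs => ⟨hTn.conj_mem s hs.1 h, fun x hx => by
    have h3 := hs.2 _ ((Subgroup.mem_normalizer_iff''.1 (hN.ge hh) x).1 hx)
    calc x * (h * s * h⁻¹) = h * (h⁻¹ * x * h * s) * h⁻¹ := by group
      _ = h * s * h⁻¹ * x := by rw [h3]; group⟩
  have hSc : ∀ a ∈ S, ∀ b ∈ S, a * b = b * a := fun a ha b hb => by
    apply inv_injective
    rw [← (hinv _ (mul_mem ha hb)).1, mul_inv_rev, ← (hinv a ha).1, ← (hinv b hb).1]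
    group
  have key : ∀ y ∈ clsIn T H τ, ∀ s ∈ S, y * s * y⁻¹ = s⁻¹ := by
    rintro _ ⟨hy, u, hu, rfl⟩ s hs
    have h3 := hSn _ hy s hs
    have h4 := mul_mem hs h3
    have h5 : u⁻¹ * τ * u * (s * (u⁻¹ * τ * u * s * (u⁻¹ * τ * u)⁻¹)) =
        s * (u⁻¹ * τ * u * s * (u⁻¹ * τ * u)⁻¹) * (u⁻¹ * τ * u) := by
      have h6 : τ⁻¹ = τ := inv_eq_of_mul_eq_one_left h2
      rw [hSc _ hs _ h3]
      calc _ = u⁻¹ * τ * u * (s * (u⁻¹ * τ * u * s * (u⁻¹ * τ * u)⁻¹)) := by rw [hSc _ hs _ h3]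
        _ = u⁻¹ * τ * u * (u⁻¹ * τ * u * s * (u⁻¹ * τ * u)⁻¹ * s) := by rw [hSc _ hs _ h3]
        _ = u⁻¹ * (τ * τ) * u * s * u⁻¹ * τ⁻¹ * u * s := by group
        _ = s * (u⁻¹ * τ * u * s * (u⁻¹ * τ * u)⁻¹) * (u⁻¹ * τ * u) := by rw [h2, h6]; group
        _ = _ := by rw [hSc _ hs _ h3]
    generalize hp : s * (u⁻¹ * τ * u * s * (u⁻¹ * τ * u)⁻¹) = p at h4 h5
    have h6 : u * p * u⁻¹ = 1 := hC _ (hTn.mem_comm_iff.1 (by simpa using h4.1))
      (by rw [← MulAut.conj_apply, MulEquiv.orderOf_eq]; exact (hinv p h4).2) (by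
        calc τ * (u * p * u⁻¹) = u * (u⁻¹ * τ * u * p) * u⁻¹ := by group
          _ = _ := by rw [h5]; group)
    have h7 : p = 1 := by simpa using h6
    rw [h7] at hp
    exact eq_inv_of_mul_eq_one_right hp
  have h3 : (clsIn T H τ).ncard ≤ Nat.card S := by
    rw [← Nat.card_coe_set_eq]
    refine Nat.card_le_card_of_injective (fun y : clsIn T H τ => (⟨τ * y, T.mul_mem hτ ?_, fun x hx => ?_⟩ : S)) ?_
    · obtain ⟨-, u, hu, e⟩ := y.2
      exact e ▸ T.mul_mem (T.mul_mem (T.inv_mem hu) hτ) hu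
    · have h4 := key y y.2 x (hES hx)
      have h5 := (hinv _ (inv_mem (hES hx))).1
      rw [inv_inv, ← h4] at h5
      nth_rewrite 1 [← h5]
      group
    · intro y y' e
      exact Subtype.ext (mul_left_cancel (congrArg Subtype.val e : τ * y = τ * y'))
  have h4 : (Subgroup.centralizer {τ}).relIndex (H ⊓ T) ≤ Nat.card S := by
    rw [← GH.E.ncard_orbit]
    refine (Set.ncard_le_ncard ?_).trans h3
    rintro _ ⟨k, hk, rfl⟩
    exact ⟨mul_mem (mul_mem hk.1 hτH) (inv_mem hk.1), k⁻¹, inv_mem hk.2, by rw [inv_inv]⟩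
  have hn : ∀ a ∈ H, ∀ y ∈ H ⊓ T, a * y * a⁻¹ ∈ H ⊓ T := fun a ha y hy =>
    ⟨H.mul_mem (H.mul_mem ha hy.1) (H.inv_mem ha), hTn.conj_mem y hy.2 a⟩
  have h5 := hEl G T H (H ⊓ T) (H ⊓ T) m 2 1 τ hT hH Nat.prime_two hd inf_le_left hn le_rfl (fun a ha => hn a ha.1)
    ⟨hτH, hτ⟩ ((orderOf_eq_prime (by rw [sq, h2]) h1).trans (pow_one 2).symm)
  rw [sq]
  exact h5.trans (Nat.mul_le_mul ((min_le_right _ _).trans h4) h3)

/-- the same along an isomorphism -/
theorem loc_X (hEl : Sv.BoxEl) (hT : AS T) (hH : Half H m) (hd : ¬ 2 ∣ Nat.card H / m) (hE : E ≤ T)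
    (hc : ∀ x ∈ E, ∀ y ∈ E, x * y = y * x) (hN : Subgroup.normalizer (E : Set G) = H) {X : Type*} [Group X] (e : T ≃* X)
    {A : Subgroup X} (hA : ∀ x : T, e x ∈ A ↔ (x : G) ∈ E) {t : X} (h1 : t ≠ 1) (h2 : t * t = 1)
    (hinv : ∀ s ∈ Subgroup.centralizer (A : Set X), t * s * t⁻¹ = s⁻¹ ∧ Odd (orderOf s))
    (hC : ∀ y : X, Odd (orderOf y) → t * y = y * t → y = 1) :
    (Subgroup.centralizer {t}).index ≤ Nat.card (Subgroup.centralizer (A : Set X)) ^ 2 := by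
  obtain ⟨τ, rfl⟩ := e.surjective t
  have hS : ∀ s : T, (s : G) ∈ Subgroup.centralizer (E : Set G) → e s ∈ Subgroup.centralizer (A : Set X) := by
    intro s hs a ha
    obtain ⟨a, rfl⟩ := e.surjective a
    rw [← map_mul, ← map_mul]
    exact congrArg e (Subtype.ext (hs a ((hA a).1 ha)))
  have ho : ∀ s : T, orderOf (e s) = orderOf (s : G) := fun s => by rw [MulEquiv.orderOf_eq, Subgroup.orderOf_coe]
  have h3 := loc_G hEl hT hH hd hE hc hN τ.2 (fun h => h1 (by rw [show τ = 1 from Subtype.ext h, map_one]))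
    (congrArg Subtype.val (e.injective (by rw [map_mul, h2, map_one]) : τ * τ = 1))
    (fun s hs => by
      obtain ⟨h4, h5⟩ := hinv _ (hS ⟨s, hs.1⟩ hs.2)
      rw [← map_inv, ← map_inv, ← map_mul, ← map_mul] at h4
      exact ⟨congrArg Subtype.val (e.injective h4), ho ⟨s, hs.1⟩ ▸ h5⟩)
    (fun y hy h4 h5 => by
      have h6 := hC (e ⟨y, hy⟩) (by rwa [ho]) (by rw [← map_mul, ← map_mul]; exact congrArg e (Subtype.ext h5))
      exact congrArg Subtype.val (e.injective (h6.trans (map_one e).symm)))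
  have h4 : (Subgroup.centralizer {(τ : G)}).subgroupOf T = (Subgroup.centralizer {e τ}).comap e.toMonoidHom := by
    ext x
    rw [Subgroup.mem_subgroupOf, Subgroup.mem_comap, Subgroup.mem_centralizer_singleton_iff,
      Subgroup.mem_centralizer_singleton_iff, MulEquiv.coe_toMonoidHom, ← map_mul, ← map_mul, e.injective.eq_iff,
      Subtype.ext_iff]
    rfl
  rw [Subgroup.relIndex, h4, Subgroup.index_comap_of_surjective _ e.surjective] at h3
  refine h3.trans (Nat.pow_le_pow_left ?_ 2)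
  have := Finite.of_equiv _ e.toEquiv
  refine Nat.card_le_card_of_injective (fun s : ↥(T ⊓ Subgroup.centralizer (E : Set G)) =>
    (⟨e ⟨s, s.2.1⟩, hS _ s.2.2⟩ : Subgroup.centralizer (A : Set X))) fun s s' h => ?_
  exact Subtype.ext (congrArg Subtype.val (e.injective (congrArg Subtype.val h)) :)

theorem perfect_of {Y : Type*} [Group Y] (hs : IsSimpleGroup Y) (hn : ¬ IsMulCommutative Y) : commutator Y = ⊤ := by
  rcases (inferInstance : (commutator Y).Normal).eq_bot_or_eq_top with h | h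
  · rw [commutator_eq_bot_iff_center_eq_top, Cases.center_eq_bot hs hn] at h
    exact absurd h bot_ne_top
  · exact h

theorem exists_odd {Y : Type*} [Group Y] [Finite Y] (hs : IsSimpleGroup Y) (hn : ¬ IsMulCommutative Y) :
    ∃ y : Y, y ≠ 1 ∧ Odd (orderOf y) := by
  by_contra h
  push Not at h
  have h1 : IsPGroup 2 Y := by
    refine IsPGroup.of_card (n := (Nat.card Y).primeFactorsList.length)
      (Nat.eq_prime_pow_of_unique_prime_dvd Nat.card_pos.ne' fun {p} hp hd => ?_)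
    have := Fact.mk hp
    obtain ⟨y, hy⟩ := exists_prime_orderOf_dvd_card' p hd
    by_contra h2
    exact h y (fun h3 => hp.one_lt.ne (by rw [← hy, h3, orderOf_one])) (hy ▸ hp.odd_of_ne_two h2)
  have h2 := h1.center_nontrivial
  rw [Cases.center_eq_bot hs hn] at h2
  exact not_nontrivial _ h2

end abs

variable {G : Type} [Group G] [Finite G] {T H : Subgroup G} {F : Type} [Field F] [CharP F 2] [Finite F]

theorem mul_false [T.Normal] (e : T ≃* Sp4 F) {h : G} (hh : h ∈ H)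
    (hα : ∀ x : T, c1 (e (MulAut.conjNormal h x)) = 0 ↔ c2 (e x) = 0) {𝓢 : Set (Subgroup G)} (hM : Mul T H 𝓢) : False := by
  have hle : ∀ S ∈ 𝓢, S ≤ T := fun S hS => (hM.le S hS).trans inf_le_right
  have ho : ∀ s : T, orderOf (e s) = orderOf (s : G) := fun s => by rw [MulEquiv.orderOf_eq, Subgroup.orderOf_coe]
  have hne : ∀ s : T, (s : G) ≠ 1 → e s ≠ 1 := fun s hs h1 => hs (congrArg Subtype.val (e.injective (h1.trans (map_one e).symm)))
  have hoth : ∀ S, ∃ S' ∈ 𝓢, S' ≠ S := fun S => hM.two.exists_ne S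
  have hodd : ∀ S ∈ 𝓢, ∃ x : T, (x : G) ∈ S ∧ (x : G) ≠ 1 ∧ Odd (orderOf (x : G)) := fun S hS => by
    obtain ⟨y, h1, h2⟩ := exists_odd (hM.simple S hS) (hM.nonab S hS)
    exact ⟨⟨y, hle S hS y.2⟩, y.2, fun h3 => h1 (Subtype.ext h3), (Subgroup.orderOf_coe y).symm ▸ h2⟩
  have hcm : ∀ S ∈ 𝓢, ∀ S' ∈ 𝓢, S' ≠ S → ∀ x y : T, (x : G) ∈ S → (y : G) ∈ S' → e y * e x = e x * e y :=
    fun S hS S' hS' h1 x y hx hy => by
      rw [← map_mul, ← map_mul]
      exact congrArg e (Subtype.ext (hM.comm S' hS' S hS h1 y hy x hx))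
  have step : ∀ S ∈ 𝓢, ∀ b : T, (b : G) ∈ S → (b : G) ≠ 1 → Odd (orderOf (b : G)) → c2 (e b) = 0 →
      ∀ S' ∈ 𝓢, S' ≠ S → ∀ y : T, (y : G) ∈ S' → c2 (e y) = 0 := fun S hS b hb h1 h2 h3 S' hS' h4 y hy =>
    c2_of_perfect (by rwa [ho]) (hne b h1) h3 (e.toMonoidHom.comp (Subgroup.inclusion (hle S' hS')))
      (perfect_of (hM.simple S' hS') (hM.nonab S' hS')) (fun z => hcm S hS S' hS' h4 b _ hb z.2) ⟨y, hy⟩
  have hoc : ∀ x : T, orderOf ((MulAut.conjNormal h x : T) : G) = orderOf (x : G) := fun x => by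
    rw [Subgroup.orderOf_coe, Subgroup.orderOf_coe, MulEquiv.orderOf_eq]
  have hnc : ∀ x : T, ((MulAut.conjNormal h x : T) : G) = 1 ↔ (x : G) = 1 := fun x => by
    rw [← orderOf_eq_one_iff, hoc, orderOf_eq_one_iff]
  obtain ⟨S, hS, b, hb, h1, h2, h3⟩ : ∃ S ∈ 𝓢, ∃ b : T, (b : G) ∈ S ∧ (b : G) ≠ 1 ∧ Odd (orderOf (b : G)) ∧ c2 (e b) = 0 := by
    obtain ⟨S, hS⟩ := hM.two.nonempty
    obtain ⟨x, hx, h1, h2⟩ := hodd S hS
    by_cases h3 : c2 (e x) = 0
    · exact ⟨S, hS, x, hx, h1, h2, h3⟩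
    by_cases h4 : c1 (e x) = 0
    · obtain ⟨b, rfl⟩ := (MulAut.conjNormal (H := T) h).surjective x
      refine ⟨_, hM.perm h⁻¹ (inv_mem hh) S hS, b, mem_cj.2 ?_, fun h5 => h1 ((hnc b).2 h5), hoc b ▸ h2, (hα b).1 h4⟩
      rw [inv_inv]
      exact hx
    obtain ⟨S', hS', h5⟩ := hoth S
    refine absurd ⟨⟨fun p q => ?_⟩⟩ (hM.nonab S' hS')
    have h6 : e ⟨p, hle S' hS' p.2⟩ * e ⟨q, hle S' hS' q.2⟩ = e ⟨q, hle S' hS' q.2⟩ * e ⟨p, hle S' hS' p.2⟩ :=
      Subtype.ext (comm_of_comm ⟨h4, h3⟩ (congrArg Subtype.val (hcm S hS S' hS' h5 x _ hx p.2))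
        (congrArg Subtype.val (hcm S hS S' hS' h5 x _ hx q.2)))
    rw [← map_mul, ← map_mul] at h6
    exact Subtype.ext (congrArg Subtype.val (e.injective h6) :)
  have hall : ∀ S₁ ∈ 𝓢, ∀ y : T, (y : G) ∈ S₁ → c2 (e y) = 0 := by
    intro S₁ hS₁ y hy
    by_cases h4 : S₁ = S
    · obtain ⟨S', hS', h5⟩ := hoth S
      obtain ⟨b', hb', h6, h7⟩ := hodd S' hS'
      exact step S' hS' b' hb' h6 h7 (step S hS b hb h1 h2 h3 S' hS' h5 b' hb') S₁ hS₁ (h4 ▸ h5.symm) y hy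
    · exact step S hS b hb h1 h2 h3 S₁ hS₁ h4 y hy
  exact hne _ (fun h4 => h1 ((hnc b).1 h4)) (eq_one_of_c (by rwa [ho, hoc]) ((hα b).2 h3)
    (hall _ (hM.perm h hh S hS) _ (conj_mem_cj h hb)))

theorem loc_false (hEl : Sv.BoxEl) (hq : 4 ≤ Nat.card F) {m : ℕ} (c : LieCtx T H m 2) [T.Normal] (e : T ≃* Sp4 F) {h : G}
    (hh : h ∈ H) (hα : ∀ x : T, c1 (e (MulAut.conjNormal h x)) = 0 ↔ c2 (e x) = 0) {E : Subgroup G} {r : ℕ}
    (hL : DS.Loc T H E r) : False := by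
  have hA : ∀ x : T, e x ∈ (E.subgroupOf T).map e.toMonoidHom ↔ (x : G) ∈ E := fun x =>
    Subgroup.mem_map_iff_mem (f := e.toMonoidHom) e.injective
  generalize (E.subgroupOf T).map e.toMonoidHom = A at hA
  obtain ⟨t, h1, h2, h3, h4, h5⟩ := loc_core (α := MulAut.congr e (MulAut.conjNormal h)) (A := A) hq
    (fun y => by
      obtain ⟨x, rfl⟩ := e.surjective y
      rw [← hα]
      simp)
    (by
      obtain ⟨x, hx⟩ := Subgroup.ne_bot_iff_exists_ne_one.1 hL.ne_bot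
      refine Subgroup.ne_bot_iff_exists_ne_one.2 ⟨⟨e ⟨x, hL.le_S x.2⟩, (hA _).2 x.2⟩, fun h1 => hx (Subtype.ext ?_)⟩
      exact (congrArg Subtype.val (e.injective ((congrArg Subtype.val h1).trans (map_one e).symm)) :))
    (fun a ha b hb => by
      obtain ⟨a, rfl⟩ := e.surjective a
      obtain ⟨b, rfl⟩ := e.surjective b
      rw [← map_mul, ← map_mul]
      exact congrArg e (Subtype.ext (hL.comm _ ((hA a).1 ha) _ ((hA b).1 hb))))
    (fun a ha => by
      obtain ⟨a, rfl⟩ := e.surjective a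
      rw [MulEquiv.orderOf_eq, ← Subgroup.orderOf_coe]
      exact (hL.prime.odd_of_ne_two (c.ne_of_loc hL)).of_dvd_nat (orderOf_dvd_of_pow_eq_one (hL.pow _ ((hA a).1 ha))))
    (fun a => by
      obtain ⟨a, rfl⟩ := e.surjective a
      have e1 : MulAut.congr e (MulAut.conjNormal h) (e a) = e (MulAut.conjNormal h a) := by simp
      rw [e1, hA, hA]
      exact (Subgroup.mem_normalizer_iff.1 (hL.norm.ge hh) a).symm)
  exact absurd (loc_X hEl c.as c.half c.not_dvd_d hL.le_S hL.comm hL.norm e hA h1 h2 h3 h4) (not_le.2 h5)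

end B2

/-- **[C-B2]** -/
theorem boxB2_of (ht : BoxTri) (hEl : Sv.BoxEl) (s : Sims) : BoxB2 := by
  intro hK G _ _ T H m c K _ _ _ e o hq ⟨g, hg⟩
  have hq' : 4 ≤ Nat.card K := by rwa [Nat.card_eq_fintype_card]
  have hTn := c.as.normal
  obtain ⟨h, hh, t, htT, rfl⟩ := c.as.exists_mul c.half g
  have h1 : MulAut.congr (e.trans (mkE K).symm) (MulAut.conjNormal (H := T) h) ∉ (conjHom 2 K).range := by
    intro h2
    apply hg
    have h3 := (congE_mem_range _).2 (mul_mem h2 (conj_mem_P ((mkE K).symm (e ⟨t, htT⟩))))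
    have h4 : congE K (MulAut.congr (e.trans (mkE K).symm) (MulAut.conjNormal (H := T) h) *
        MulAut.conj ((mkE K).symm (e ⟨t, htT⟩))) = ind c.as.normal e (h * t) := by
      rw [map_mul, congE_conj, MulEquiv.apply_symm_apply, ind, map_mul, map_mul, MulAut.conjNormal_val (h := ⟨t, htT⟩)]
      generalize MulAut.conjNormal (H := T) h = β
      congr 1
      · ext1 x
        rw [congE_apply]
        simp
      · ext1 x
        simp
    rwa [h4] at h3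
  obtain ⟨φ, hφ⟩ := c1_of_graph hq' h1
  have hα : ∀ x : T, c1 ((e.trans (mkE K).symm) (MulAut.conjNormal h x)) = 0 ↔ c2 ((e.trans (mkE K).symm) x) = 0 := by
    intro x
    rw [← map_eq_zero φ (a := c2 _), ← hφ]
    generalize e.trans (mkE K).symm = e'
    simp
  rcases ht G T H m c.as c.half with ⟨E, r, hL⟩ | ⟨N, hN⟩ | ⟨𝓢, hM⟩
  · exact B2.loc_false hEl hq' c _ hh hα hL
  · exact Cases.false_of_sims s hK c o hN (Or.inr (Or.inl ⟨K, inferInstance, inferInstance, inferInstance, 2, le_rfl,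
      fun _ => by omega, ⟨e⟩⟩))
  · exact B2.mul_false _ hh hα hM

end Cfsg.Agent.TH.Cl
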