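import Cfsg.Agent.SB.B2.Main
import Cfsg.Agent.H976.Cop.RowIso

/-!
# S3541, `Sp₄(2^a)` with a graph automorphism: matrix lemmas (helper63)

* `exists_idem` : the idempotent attached to an element `b ≠ 1` of odd order with `c2 b = 0`;
* `c2_of_perfect` : a perfect group centralising such an element has `c2 = 0`;
* `c2_of_inv` : an involution commuting with such an element inverts only elements with `c2 = 0`;
* `Tor` : the shape of the centraliser of an abelian group of odd order invariant under a graph automorphism.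
-/

set_option autoImplicit false
set_option linter.unusedSectionVars false

namespace Cfsg.Agent.TH.Cl.B2

open Matrix Cfsg.Agent.ClassicalGeometry.Sp4Graph Cfsg.Agent.H88.FC Cfsg.Agent.H319.FC Cfsg.Agent.SB.B2

variable {F : Type*} [Field F] [CharP F 2]

theorem st_of_sq {t : Sp4 F} (h : t * t = 1) : st (t : Matrix I4 I4 F) = t := by
  rw [← coe_inv, inv_eq_of_mul_eq_one_left h]

theorem eq_one_of_c {b : Sp4 F} (hb : Odd (orderOf b)) (h1 : c1 b = 0) (h2 : c2 b = 0) : b = 1 := by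
  obtain ⟨ρ, h3, h4⟩ := W_scal hb h1
  rw [h2] at h4
  rw [mul_self_eq_zero.1 h4.symm, zero_smul] at h3
  exact eq_one_of_W hb h3

theorem exists_idem {b : Sp4 F} (hb : Odd (orderOf b)) (hb1 : b ≠ 1) (h2 : c2 b = 0) :
    ∃ e : Matrix I4 I4 F, e * e ≠ 0 ∧ (∀ X : Matrix I4 I4 F, X * b = b * X → X * e = e * X) ∧
      (∀ X Y : Matrix I4 I4 F, X * b = b * X → Y * b = b * Y → X * Y * e = Y * X * e) ∧
      ∀ X : Matrix I4 I4 F, X * b = b * X → st X = X → ∃ m : F, X * e = m • e := by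
  have hc : c1 b ≠ 0 := fun h => hb1 (eq_one_of_c hb h h2)
  have hw := W_sq'' b
  rw [h2, zero_smul, add_zero] at hw
  have hns : ∀ k : F, W (b : Matrix I4 I4 F) ≠ k • (1 : Matrix I4 I4 F) := fun k hk => hc (trace_eq_zero hk)
  have hcm : ∀ X : Matrix I4 I4 F, X * b = b * X → X * W (b : Matrix I4 I4 F) = W (b : Matrix I4 I4 F) * X :=
    fun X hX => (comm_W hX).symm
  have hin : ∀ X : Matrix I4 I4 F, X * b = b * X → InK (W (b : Matrix I4 I4 F)) (W X) := fun X hX => W_inK' hc hX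
  have hst : ∀ X : Matrix I4 I4 F, X * b = b * X → st X * b = b * st X := fun X hX => st_comm hX
  have hst' : ∀ X : Matrix I4 I4 F, X * b = b * X → X * st (b : Matrix I4 I4 F) = st (b : Matrix I4 I4 F) * X :=
    fun X hX => comm_st hX
  have hsw := st_W (b : Matrix I4 I4 F)
  have hwb : W (b : Matrix I4 I4 F) = b + st (b : Matrix I4 I4 F) := rfl
  generalize W (b : Matrix I4 I4 F) = w at *
  generalize c1 b = c at *
  generalize (b : Matrix I4 I4 F) = B at *
  have hwB : w * B = B * w := (hcm B rfl).symm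
  -- `W (X w)` is a multiple of `w`
  have key : ∀ X : Matrix I4 I4 F, X * B = B * X → ∃ l : F, W (X * w) = l • w := by
    intro X hX
    obtain ⟨α, β, h⟩ := hin (X * w) (by rw [mul_assoc, hwB, ← mul_assoc, hX, mul_assoc])
    have h3 : W (X * w) = (X + st X) * w := by rw [W, st_mul, hsw, add_mul, hcm _ (hst X hX)]
    have h4 : W (X * w) * w = c • W (X * w) := by rw [h3, mul_assoc, hw, mul_smul_comm]
    rw [h, add_mul, smul_mul_assoc, smul_mul_assoc, one_mul, hw] at h4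
    have h5 : (0 : F) • (1 : Matrix I4 I4 F) + (α + β * c) • w = (c * α) • (1 : Matrix I4 I4 F) + (c * β) • w := by
      rw [zero_smul, zero_add, add_smul, ← smul_smul, h4]
      module
    have h6 : α = 0 := (mul_eq_zero.1 (InK.coeff hns h5).1.symm).resolve_left hc
    exact ⟨β, by rw [h, h6, zero_smul, zero_add]⟩
  have form : ∀ X : Matrix I4 I4 F, X * B = B * X → ∃ l m : F, W (X * w) = l • w ∧
      c • (X * w) = m • w + l • (w * st B) := by
    intro X hX
    obtain ⟨l, hl⟩ := key X hX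
    obtain ⟨m, hm⟩ := key (B * X) (by rw [mul_assoc, hX])
    refine ⟨l, m, hl, ?_⟩
    rw [← smul_mul_assoc l, ← hl, ← hm, ← mul_smul_comm, ← hw, W, W, st_mul (B * X), st_mul, st_mul, hsw, ← hX]
    have h3 : X * (w * w) = X * B * w + X * w * st B := by
      nth_rewrite 2 [hwb]
      rw [mul_add, hwB, mul_add]
      simp only [mul_assoc]
    have h4 : X * B * w + w * (st X * st B) + (X * w + w * st X) * st B =
      X * B * w + X * w * st B + (w * (st X * st B) + w * (st X * st B)) := by noncomm_ring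
    rw [h3, h4, CharTwo.add_self_eq_zero, add_zero]
  have hw0 : w ≠ 0 := fun h => hns 0 (by rw [h, zero_smul])
  refine ⟨w, by rw [hw]; exact smul_ne_zero hc hw0, hcm, fun X Y hX hY => ?_, fun X hX hs => ?_⟩
  · obtain ⟨l, m, -, h3⟩ := form X hX
    obtain ⟨l', m', -, h4⟩ := form Y hY
    have h5 : ∀ P Q : Matrix I4 I4 F, Q * B = B * Q →
        (c • (P * w)) * (c • (Q * w)) = (c * c * c) • (P * Q * w) := by
      intro P Q hQ
      rw [smul_mul_smul_comm, mul_assoc P, ← mul_assoc w, ← hcm Q hQ, mul_assoc Q, hw, mul_smul_comm, mul_smul_comm,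
        smul_smul, mul_assoc P]
    have h6 : w * (w * st B) = w * st B * w := by rw [mul_assoc, hcm _ (hst B rfl)]
    have h7 : (c • (X * w)) * (c • (Y * w)) = (c • (Y * w)) * (c • (X * w)) := by
      rw [h3, h4]
      simp only [add_mul, mul_add, smul_mul_assoc, mul_smul_comm, h6]
      module
    rw [h5 X Y hY, h5 Y X hX] at h7
    exact smul_right_injective _ (mul_ne_zero (mul_ne_zero hc hc) hc) h7
  · obtain ⟨l, m, h3, h4⟩ := form X hX
    rw [W, st_mul, hsw, hs, ← hcm X hX, CharTwo.add_self_eq_zero] at h3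
    rw [(smul_eq_zero.1 h3.symm).resolve_right hw0, zero_smul, add_zero] at h4
    exact ⟨c⁻¹ * m, by rw [← smul_smul, ← h4, smul_smul, inv_mul_cancel₀ hc, one_smul]⟩

theorem c2_of_fix {y : Sp4 F} {e : Matrix I4 I4 F} (h0 : e ≠ 0) (h : (y : Matrix I4 I4 F) * e = e) : c2 y = 0 := by
  have h1 : st (y : Matrix I4 I4 F) * e = e := by
    nth_rewrite 1 [← h]
    rw [← mul_assoc, st_mul_self, one_mul]
  have h2 : W (y : Matrix I4 I4 F) * e = 0 := by
    rw [W, add_mul, h, h1]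
    exact CharTwo.add_self_eq_zero _
  have h3 := congrArg (fun M : Matrix I4 I4 F => M * e) (W_sq'' y)
  simp only [mul_assoc, add_mul, smul_mul_assoc, h2, mul_zero, smul_zero, zero_add, one_mul] at h3
  exact (smul_eq_zero.1 h3.symm).resolve_right h0

theorem c2_of_perfect {b : Sp4 F} (hb : Odd (orderOf b)) (hb1 : b ≠ 1) (h2 : c2 b = 0) {Y : Type*} [Group Y]
    (ψ : Y →* Sp4 F) (hY : commutator Y = ⊤) (hc : ∀ y, ψ y * b = b * ψ y) (y : Y) : c2 (ψ y) = 0 := by
  obtain ⟨e, h00, -, h3, -⟩ := exists_idem hb hb1 h2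
  have h0 : e ≠ 0 := left_ne_zero_of_mul h00
  have hm : ∀ p q : Y, (ψ (p * q) : Matrix I4 I4 F) = (ψ p : Matrix I4 I4 F) * ψ q := fun p q => by
    rw [map_mul]; rfl
  have h1 : (ψ 1 : Matrix I4 I4 F) = 1 := by rw [map_one]; rfl
  have h4 : ∀ p q : Y, (ψ (p * q) : Matrix I4 I4 F) * e = (ψ (q * p) : Matrix I4 I4 F) * e := fun p q => by
    rw [hm, hm]
    exact h3 _ _ (congrArg Subtype.val (hc p)) (congrArg Subtype.val (hc q))
  let K : Subgroup Y :=
    { carrier := {y | (ψ y : Matrix I4 I4 F) * e = e}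
      mul_mem' := fun {p q} hp hq => by
        have hp' : (ψ p : Matrix I4 I4 F) * e = e := hp
        have hq' : (ψ q : Matrix I4 I4 F) * e = e := hq
        show (ψ (p * q) : Matrix I4 I4 F) * e = e
        rw [hm, mul_assoc, hq', hp']
      one_mem' := by
        show (ψ 1 : Matrix I4 I4 F) * e = e
        rw [h1, one_mul]
      inv_mem' := fun {p} hp => by
        have hp' : (ψ p : Matrix I4 I4 F) * e = e := hp
        show (ψ p⁻¹ : Matrix I4 I4 F) * e = e
        nth_rewrite 1 [← hp']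
        rw [← mul_assoc, ← hm, inv_mul_cancel, h1, one_mul] }
  have h5 : commutator Y ≤ K := by
    rw [commutator_def, Subgroup.commutator_le]
    intro p _ q _
    show (ψ (p * q * p⁻¹ * q⁻¹) : Matrix I4 I4 F) * e = e
    rw [h4, hm, mul_assoc, mul_assoc p, h4 p, ← mul_assoc, ← hm, inv_mul_cancel_right,
      inv_mul_cancel, h1, one_mul]
  exact c2_of_fix h0 (h5 (hY ▸ Subgroup.mem_top y))

theorem c2_of_inv {y t v : Sp4 F} (hy : Odd (orderOf y)) (hy1 : y ≠ 1) (h2 : c2 y = 0) (ht : t * t = 1)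
    (hty : t * y = y * t) (hv : t * v * t⁻¹ = v⁻¹) : c2 v = 0 := by
  obtain ⟨e, h00, h3, -, h4⟩ := exists_idem hy hy1 h2
  have h0 : e ≠ 0 := left_ne_zero_of_mul h00
  have hty' : (t : Matrix I4 I4 F) * y = y * t := congrArg Subtype.val hty
  obtain ⟨m, hm⟩ := h4 _ hty' (st_of_sq ht)
  have hte := h3 _ hty'
  have htt : (t : Matrix I4 I4 F) * t = 1 := congrArg Subtype.val ht
  have hv' : (t : Matrix I4 I4 F) * v * t = st (v : Matrix I4 I4 F) := by
    rw [← coe_inv, ← hv, inv_eq_of_mul_eq_one_left ht]; rfl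
  have hw := W_sq'' v
  have hwd : W (v : Matrix I4 I4 F) = v + st (v : Matrix I4 I4 F) := rfl
  generalize W (v : Matrix I4 I4 F) = w at *
  generalize (t : Matrix I4 I4 F) = τ at *
  have hm1 : m = 1 := by
    have h5 : τ * τ * e = (m * m) • e := by rw [mul_assoc, hm, mul_smul_comm, hm, smul_smul]
    rw [htt, one_mul] at h5
    have h6 : (1 : F) = m * m := smul_left_injective F h0 (by simpa only [one_smul] using h5)
    exact CharTwo.sq_injective (by simp only [sq, ← h6, one_mul])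
  rw [hm1, one_smul] at hm
  have hm' : e * τ = e := by rw [← hte, hm]
  rw [← hv'] at hwd
  have h5 : e * w = e * v * (1 + τ) := by
    rw [hwd, mul_add, mul_add, mul_one, ← mul_assoc, ← mul_assoc, hm']
  have h6 : w * e = (1 + τ) * (v * e) := by
    rw [hwd, add_mul, add_mul, one_mul, mul_assoc, hm, mul_assoc]
  have h7 : (1 + τ) * e = 0 := by
    rw [add_mul, one_mul, hm]
    exact CharTwo.add_self_eq_zero _
  have h8 : (1 + τ) * (1 + τ) = 0 := by
    have : (1 + τ) * (1 + τ) = (1 + τ * τ) + (τ + τ) := by noncomm_ring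
    rw [this, htt, CharTwo.add_self_eq_zero, CharTwo.add_self_eq_zero, add_zero]
  have h9 : e * (w * w) * e = 0 := by
    rw [← mul_assoc, mul_assoc, h5, h6, mul_assoc, ← mul_assoc (1 + τ), h8, zero_mul, mul_zero]
  have h10 : e * w * e = 0 := by rw [h5, mul_assoc, h7, mul_zero]
  rw [hw, mul_add, add_mul, mul_smul_comm, smul_mul_assoc, h10, smul_zero, zero_add, mul_smul_comm, mul_one,
    smul_mul_assoc] at h9
  exact (smul_eq_zero.1 h9).resolve_right h00

/-- the shape of a self-centralising torus `S` with an inverting involution `t` -/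
structure Tor (w : Matrix I4 I4 F) (c d : F) (z t : Sp4 F) (S : Subgroup (Sp4 F)) : Prop where
  sq : w * w = c • w + d • (1 : Matrix I4 I4 F)
  c0 : c ≠ 0
  ns : ∀ k : F, w ≠ k • (1 : Matrix I4 I4 F)
  stw : st w = w
  wz : w * z = z * w
  z2 : c2 z ≠ 0
  zS : z ∈ S
  tt : t * t = 1
  tz : t * z * t⁻¹ = z⁻¹
  tw : w * t = t * w
  form : ∀ s ∈ S, ∃ α β : Matrix I4 I4 F, InK w α ∧ InK w β ∧ (s : Matrix I4 I4 F) = α + β * z

section tor

variable {w : Matrix I4 I4 F} {c d : F} {z t : Sp4 F} {S : Subgroup (Sp4 F)}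

theorem Tor.st_form (h : Tor w c d z t S) {α β : Matrix I4 I4 F} (hα : InK w α) (hβ : InK w β) :
    st (α + β * (z : Matrix I4 I4 F)) = α + β * st (z : Matrix I4 I4 F) := by
  rw [st_add, hα.st h.stw, st_mul, hβ.st h.stw, hβ.comm_of (comm_st h.wz)]

theorem Tor.inv (h : Tor w c d z t S) {s : Sp4 F} (hs : s ∈ S) : t * s * t⁻¹ = s⁻¹ := by
  obtain ⟨α, β, hα, hβ, e⟩ := h.form s hs
  have h1 : (t : Matrix I4 I4 F) * z = st (z : Matrix I4 I4 F) * t := by
    rw [← coe_inv]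
    exact congrArg Subtype.val (mul_inv_eq_iff_eq_mul.1 h.tz)
  rw [mul_inv_eq_iff_eq_mul]
  apply Subtype.ext
  show (t : Matrix I4 I4 F) * s = (s⁻¹ : Sp4 F) * t
  rw [coe_inv, e, h.st_form hα hβ, mul_add, add_mul, hα.comm_of h.tw, ← mul_assoc, ← hβ.comm_of h.tw, mul_assoc, h1,
    mul_assoc]

theorem Tor.eq_one (h : Tor w c d z t S) {s : Sp4 F} (hs : s ∈ S) (h2 : s * s = 1) : s = 1 := by
  obtain ⟨α, β, hα, hβ, e⟩ := h.form s hs
  have h1 := st_of_sq h2
  rw [e, h.st_form hα hβ, add_right_inj] at h1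
  have h3 : β * W (z : Matrix I4 I4 F) = 0 := by
    rw [W, mul_add, h1]
    exact CharTwo.add_self_eq_zero _
  have h4 : β = 0 := by
    have h5 := congrArg (fun M : Matrix I4 I4 F => β * M) (W_sq'' z)
    simp only [← mul_assoc, mul_add, mul_smul_comm, h3, zero_mul, smul_zero, zero_add, mul_one] at h5
    exact (smul_eq_zero.1 h5.symm).resolve_left h.z2
  rw [h4, zero_mul, add_zero] at e
  have h6 : (s : Matrix I4 I4 F) * s = 1 := congrArg Subtype.val h2
  have h7 : (α + 1) * (α + 1) = 0 := by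
    have h8 : (α + 1) * (α + 1) = α * α + 1 + (α + α) := by noncomm_ring
    rw [h8, ← e, h6, CharTwo.add_self_eq_zero, CharTwo.add_self_eq_zero, add_zero]
  have h9 := InK.sq_eq_zero h.c0 h.sq h.ns (hα.add InK.one) h7
  apply Subtype.ext
  rw [e]
  exact CharTwo.add_eq_zero.1 h9

theorem Tor.ne_one (h : Tor w c d z t S) : t ≠ 1 := by
  intro h1
  have h2 := h.tz
  rw [h1, one_mul, inv_one, mul_one, eq_inv_iff_mul_eq_one] at h2
  have h3 := h.z2
  rw [h.eq_one h.zS h2] at h3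
  refine h3 (c2_of_fix (e := 1) one_ne_zero ?_)
  rw [mul_one]; rfl

variable [Finite F]

theorem Tor.odd (h : Tor w c d z t S) {s : Sp4 F} (hs : s ∈ S) : Odd (orderOf s) := by
  rw [← Nat.not_even_iff_odd]
  rintro ⟨k, hk⟩
  have h0 : 0 < orderOf s := orderOf_pos s
  have h1 : s ^ k = 1 := h.eq_one (pow_mem hs k) (by rw [← pow_add, ← hk, pow_orderOf_eq_one])
  have h3 := Nat.le_of_dvd (by omega) (orderOf_dvd_of_pow_eq_one h1)
  omega

theorem Tor.card (hq : 4 ≤ Nat.card F) (h : Tor w c d z t S) :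
    Nat.card S * ((Nat.card F - 1) * 2) ≤ Nat.card F ^ 4 := by
  classical
  obtain ⟨l, hl⟩ : ∃ l : F, l * l + l * c + d ≠ 0 := by
    obtain ⟨u, hu0, hu1⟩ := exists_t (F := F) hq
    by_contra hcon
    push Not at hcon
    have h0 := hcon 0
    have h1 := hcon 1
    have h2 := hcon u
    have h3 : u * (u - 1) = 0 := by linear_combination h2 - u * h1 + (u - 1) * h0
    rcases mul_eq_zero.1 h3 with h4 | h4
    exacts [hu0 h4, hu1 (sub_eq_zero.1 h4)]
  have h2 : (2 : F) = 0 := CharTwo.two_eq_zero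
  let κ : Bool → Matrix I4 I4 F := fun i => if i then l • (1 : Matrix I4 I4 F) + (1 : F) • w else 1
  have hκ : ∀ i, InK w (κ i) := fun i => by
    cases i
    exacts [InK.one, ⟨l, 1, rfl⟩]
  have hκ1 : κ true * κ true = (l * l + d) • (1 : Matrix I4 I4 F) + c • w := by
    show (l • (1 : Matrix I4 I4 F) + (1 : F) • w) * (l • (1 : Matrix I4 I4 F) + (1 : F) • w) = _
    have e : (l • (1 : Matrix I4 I4 F) + (1 : F) • w) * (l • (1 : Matrix I4 I4 F) + (1 : F) • w) =
        (l * l) • (1 : Matrix I4 I4 F) + (l • w + l • w) + w * w := by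
      simp only [add_mul, mul_add, smul_mul_assoc, mul_smul_comm, one_mul, mul_one]
      module
    rw [e, CharTwo.add_self_eq_zero, h.sq]
    module
  have hκ0 : κ false * κ false = (1 : F) • (1 : Matrix I4 I4 F) + (0 : F) • w := by
    show (1 : Matrix I4 I4 F) * 1 = _
    simp
  have hu : ∀ i, ∃ u : Matrix I4 I4 F, u * κ i = 1 := fun i => by
    cases i
    · exact ⟨1, one_mul _⟩
    · refine ⟨(l * l + l * c + d)⁻¹ • (κ true + c • (1 : Matrix I4 I4 F)), ?_⟩
      rw [smul_mul_assoc, add_mul, hκ1, smul_mul_assoc, one_mul]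
      have e : (l * l + d) • (1 : Matrix I4 I4 F) + c • w + c • κ true =
          (l * l + l * c + d) • (1 : Matrix I4 I4 F) + (c • w + c • w) := by
        show _ + c • (l • (1 : Matrix I4 I4 F) + (1 : F) • w) = _
        module
      rw [e, CharTwo.add_self_eq_zero, add_zero, smul_smul, inv_mul_cancel₀ hl, one_smul]
  have key : ∀ p : S × Fˣ × Bool, ∃ r : (F × F) × F × F, (p.2.1 : F) • (κ p.2.2 * ((p.1 : Sp4 F) : Matrix I4 I4 F)) =
      r.1.1 • (1 : Matrix I4 I4 F) + r.1.2 • w + (r.2.1 • (1 : Matrix I4 I4 F) + r.2.2 • w) * z := by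
    rintro ⟨s, k, i⟩
    obtain ⟨α, β, hα, hβ, e⟩ := h.form s s.2
    obtain ⟨a, b, e1⟩ := ((hκ i).mul h.sq hα).smul (k : F)
    obtain ⟨a', b', e2⟩ := ((hκ i).mul h.sq hβ).smul (k : F)
    exact ⟨((a, b), a', b'), by
      show (k : F) • (κ i * ((s : Sp4 F) : Matrix I4 I4 F)) = a • _ + b • w + (a' • _ + b' • w) * _
      rw [← e1, ← e2, e, mul_add, smul_add, smul_mul_assoc, mul_assoc]⟩
  choose r hr using key
  have hN : ∀ (s : Sp4 F) (k : F) (i : Bool), (k • (κ i * (s : Matrix I4 I4 F))) * st (k • (κ i * (s : Matrix I4 I4 F))) =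
      (k * k) • (κ i * κ i) := fun s k i => by
    rw [st_smul, st_mul, (hκ i).st h.stw, smul_mul_smul_comm, mul_assoc, ← mul_assoc (s : Matrix I4 I4 F), mul_st, one_mul]
  have h5 := Nat.card_le_card_of_injective r (by
    rintro ⟨s, k, i⟩ ⟨s', k', i'⟩ e
    have e1 : (k : F) • (κ i * ((s : Sp4 F) : Matrix I4 I4 F)) = (k' : F) • (κ i' * ((s' : Sp4 F) : Matrix I4 I4 F)) :=
      ((hr (s, k, i)).trans (by rw [e])).trans (hr (s', k', i')).symm
    have e2 : ((k : F) * k) • (κ i * κ i) = ((k' : F) * k') • (κ i' * κ i') := by rw [← hN s, ← hN s', e1]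
    have hne : ∀ a b : Fˣ, ((a : F) * a) • (κ true * κ true) ≠ ((b : F) * b) • (κ false * κ false) := by
      intro a b e3
      rw [hκ1, hκ0, smul_add, smul_add, smul_smul, smul_smul, smul_smul, smul_smul] at e3
      exact mul_ne_zero (mul_ne_zero a.ne_zero a.ne_zero) h.c0 ((InK.coeff h.ns e3).2.trans (mul_zero _))
    obtain rfl : i = i' := by
      cases i <;> cases i'
      exacts [rfl, absurd e2.symm (hne _ _), absurd e2 (hne _ _), rfl]
    obtain ⟨u, hu1⟩ := hu i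
    obtain rfl : k = k' := by
      have e3 := congrArg (fun M : Matrix I4 I4 F => u * (u * M)) e2
      simp only [mul_smul_comm, ← mul_assoc, hu1] at e3
      simp only [hu1, mul_one] at e3
      have e4 : (k : F) * k = k' * k' := smul_left_injective F one_ne_zero e3
      exact Units.ext (CharTwo.sq_injective (by simpa only [_root_.sq] using e4))
    have e3 := congrArg (fun M : Matrix I4 I4 F => u * M) (smul_right_injective _ k.ne_zero e1)
    simp only [← mul_assoc, hu1, one_mul] at e3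
    rw [Subtype.ext (Subtype.ext e3)])
  simp only [Nat.card_prod, Nat.card_units, Nat.card_eq_fintype_card (α := Bool), Fintype.card_bool] at h5
  exact h5.trans (le_of_eq (by ring))

end tor

variable [Finite F]

theorem exists_inv (a : Sp4 F) : ∃ s : Sp4 F, s * s = 1 ∧ s * a * s⁻¹ = a⁻¹ ∧ W (a : Matrix I4 I4 F) * s = s * W (a : Matrix I4 I4 F) := by
  obtain ⟨s, t, hs, ht, e⟩ := H976.Cop.sp_eq_mul_invol (F := F) CharTwo.two_eq_zero a
  have hs' : s⁻¹ = s := inv_eq_of_mul_eq_one_left hs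
  have h1 : s * a * s⁻¹ = a⁻¹ := by
    rw [e, ← mul_assoc, hs, one_mul, _root_.mul_inv_rev, inv_eq_of_mul_eq_one_left ht]
  refine ⟨s, hs, h1, ?_⟩
  have h2 : s * a = a⁻¹ * s := mul_inv_eq_iff_eq_mul.1 h1
  have h3 : s * a⁻¹ = a * s := by rw [← h1, hs', ← mul_assoc, ← mul_assoc, hs, one_mul]
  have h4 : (s : Matrix I4 I4 F) * a = st (a : Matrix I4 I4 F) * s := by
    rw [← coe_inv]; exact congrArg Subtype.val h2
  have h5 : (s : Matrix I4 I4 F) * st (a : Matrix I4 I4 F) = a * s := by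
    rw [← coe_inv]; exact congrArg Subtype.val h3
  rw [W, add_mul, mul_add, h4, h5, add_comm]

theorem tor_reg {a : Sp4 F} (ha : Reg a) {S : Subgroup (Sp4 F)} (haS : a ∈ S) (hS : ∀ s ∈ S, s * a = a * s) :
    ∃ t, Tor (W (a : Matrix I4 I4 F)) (c1 a) (c2 a) a t S := by
  obtain ⟨t, h1, h2, h3⟩ := exists_inv a
  exact ⟨t, W_sq'' a, ha.c1, ha.ns, st_W _, W_self_comm a, ha.c2, haS, h1, h2, h3,
    fun s hs => exists_of_comm ha (congrArg Subtype.val (hS s hs))⟩

omit [Finite F] in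
/-- gluing along an idempotent -/
theorem glue {e f : Matrix I4 I4 F} (he : e * e = e) (hf : f * f = f) (hef : e * f = 0) (hfe : f * e = 0) (h1 : e + f = 1)
    {X Y X' Y' : Matrix I4 I4 F} (hX : e * X' = X' * e) (hY : f * Y' = Y' * f) :
    (X * e + Y * f) * (X' * e + Y' * f) = X * X' * e + Y * Y' * f := by
  have h2 : f = 1 - e := eq_sub_of_add_eq' h1
  have h3 : e = 1 - f := eq_sub_of_add_eq h1
  have hX' : f * X' = X' * f := by rw [h2, sub_mul, mul_sub, hX, one_mul, mul_one]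
  have hY' : e * Y' = Y' * e := by rw [h3, sub_mul, mul_sub, hY, one_mul, mul_one]
  have h4 : (X * e + Y * f) * (X' * e + Y' * f) =
    X * (e * X') * e + X * (e * Y') * f + Y * (f * X') * e + Y * (f * Y') * f := by noncomm_ring
  rw [h4, hX, hX', hY, hY']
  simp only [mul_assoc, he, hf, hef, hfe, mul_zero, add_zero]

theorem tor_exc {a b : Sp4 F} (h : Exc a b) {S : Subgroup (Sp4 F)} (haS : a ∈ S)
    (hS : ∀ s ∈ S, s * a = a * s ∧ s * b = b * s) : ∃ t, Tor (W (b : Matrix I4 I4 F)) 1 0 a t S := by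
  obtain ⟨hcomm, hWa, hWb, htb⟩ := h
  have ht : (b : Matrix I4 I4 F).trace ≠ 0 := by rw [htb]; exact one_ne_zero
  have hns : ∀ c : F, W (b : Matrix I4 I4 F) ≠ c • (1 : Matrix I4 I4 F) := fun c hc => ht (trace_eq_zero hc)
  have hea : W (b : Matrix I4 I4 F) * a = a * W (b : Matrix I4 I4 F) := comm_W hcomm
  have hse := st_W (b : Matrix I4 I4 F)
  have hz2 : c2 a ≠ 0 := by
    have h1 := W_sq'' a
    rw [show c1 a = 0 from trace_eq_zero (c := 1) (by rw [hWa, one_smul]), hWa, zero_smul, zero_add, mul_one] at h1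
    intro h2
    rw [h2, zero_smul] at h1
    exact one_ne_zero h1
  have hform : ∀ s ∈ S, ∃ α β : Matrix I4 I4 F, InK (W (b : Matrix I4 I4 F)) α ∧ InK (W (b : Matrix I4 I4 F)) β ∧
      (s : Matrix I4 I4 F) = α + β * a := by
    intro s hs
    have hxa : (s : Matrix I4 I4 F) * a = a * s := congrArg Subtype.val (hS s hs).1
    have hxb : (s : Matrix I4 I4 F) * b = b * s := congrArg Subtype.val (hS s hs).2
    refine ⟨_, _, W_inK' ht (X := st (a : Matrix I4 I4 F) * s) ?_, W_inK' ht hxb, ?_⟩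
    · rw [mul_assoc, hxb, ← mul_assoc, st_comm hcomm, mul_assoc]
    · have e1 : W (st (a : Matrix I4 I4 F) * (s : Matrix I4 I4 F)) + W (s : Matrix I4 I4 F) * (a : Matrix I4 I4 F) =
          (s : Matrix I4 I4 F) * W (a : Matrix I4 I4 F) +
          (st (s : Matrix I4 I4 F) * (a : Matrix I4 I4 F) + st (s : Matrix I4 I4 F) * (a : Matrix I4 I4 F)) := by
        rw [W, W, W, st_mul, st_st, ← comm_st hxa]
        noncomm_ring
      rw [e1, hWa, CharTwo.add_self_eq_zero, mul_one, add_zero]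
  suffices H : ∃ t : Sp4 F, t * t = 1 ∧ t * a * t⁻¹ = a⁻¹ ∧ W (b : Matrix I4 I4 F) * t = t * W (b : Matrix I4 I4 F) by
    obtain ⟨t, h1, h2, h3⟩ := H
    exact ⟨t, by rw [hWb, one_smul, zero_smul, add_zero], one_ne_zero, hns, hse, hea, hz2, haS, h1, h2, h3, hform⟩
  generalize W (b : Matrix I4 I4 F) = e at *
  have key : ∀ e f : Matrix I4 I4 F, e * e = e → f * f = f → e * f = 0 → f * e = 0 → e + f = 1 → st e = e → st f = f →
      e * a = a * e → ∃ s : Matrix I4 I4 F, s * s = 1 ∧ st s = s ∧ e * s = s * e ∧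
        s * a * e = st (a : Matrix I4 I4 F) * s * e := by
    intro e f he hf hef hfe h1 hse hsf hea
    have hea' := comm_st hea
    have h2 : st ((a : Matrix I4 I4 F) * e + 1 * f) = st (a : Matrix I4 I4 F) * e + 1 * f := by
      rw [st_add, st_mul, one_mul, hse, hsf, hea']
    have h3 : ((a : Matrix I4 I4 F) * e + 1 * f) * st ((a : Matrix I4 I4 F) * e + 1 * f) = 1 := by
      rw [h2, glue he hf hef hfe h1 hea' (by rw [mul_one, one_mul]), mul_st, one_mul, one_mul, one_mul, h1]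
    obtain ⟨s, h4, h5, h6⟩ := exists_inv (⟨_, (mem_iff _).2 h3⟩ : Sp4 F)
    have h7 : W ((a : Matrix I4 I4 F) * e + 1 * f) = e := by
      have e1 : (a : Matrix I4 I4 F) * e + 1 * f + (st (a : Matrix I4 I4 F) * e + 1 * f) =
        W (a : Matrix I4 I4 F) * e + (1 * f + 1 * f) := by rw [W, add_mul]; abel
      rw [W, h2, e1, hWa, CharTwo.add_self_eq_zero, add_zero, one_mul]
    have h8 : e * s = s * e := by rw [← h7]; exact h6
    have h9 : (s : Matrix I4 I4 F) * ((a : Matrix I4 I4 F) * e + 1 * f) = (st (a : Matrix I4 I4 F) * e + 1 * f) * s := by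
      rw [← h2]
      exact (congrArg Subtype.val (mul_inv_eq_iff_eq_mul.1 h5)).trans (congrArg (· * (s : Matrix I4 I4 F)) (coe_inv _))
    refine ⟨s, congrArg Subtype.val h4, st_of_sq h4, h8, ?_⟩
    have h10 := congrArg (· * e) h9
    simp only [mul_assoc, ← h8] at h10
    rw [← mul_assoc _ e, add_mul, add_mul, mul_assoc _ e, mul_assoc _ e, he, one_mul, hfe, add_zero, add_zero,
      mul_assoc, h8] at h10
    rw [mul_assoc, mul_assoc, h10]
  have hef : e * (1 + e) = 0 := by rw [mul_add, mul_one, hWb]; exact CharTwo.add_self_eq_zero _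
  have hfe : (1 + e) * e = 0 := by rw [add_mul, one_mul, hWb]; exact CharTwo.add_self_eq_zero _
  have hff : (1 + e) * (1 + e) = 1 + e := by rw [mul_add, mul_one, hfe, add_zero]
  have h1 : e + (1 + e) = 1 := by rw [add_comm, add_assoc, CharTwo.add_self_eq_zero, add_zero]
  have hsf : st (1 + e) = 1 + e := by rw [st_add, st_one, hse]
  have hfa : (1 + e) * a = a * (1 + e) := by rw [add_mul, mul_add, hea, one_mul, mul_one]
  generalize 1 + e = f at *
  obtain ⟨s, s1, s2, s3, s4⟩ := key e f hWb hff hef hfe h1 hse hsf hea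
  obtain ⟨r, r1, r2, r3, r4⟩ := key f e hff hWb hfe hef (by rw [add_comm, h1]) hsf hse hfa
  have g := fun X Y X' Y' => glue (X := X) (Y := Y) (X' := X') (Y' := Y') hWb hff hef hfe h1
  have t1 : (s * e + r * f) * (s * e + r * f) = 1 := by rw [g _ _ _ _ s3 r3, s1, r1, one_mul, one_mul, h1]
  have t2 : st (s * e + r * f) = s * e + r * f := by rw [st_add, st_mul, st_mul, s2, r2, hse, hsf, s3, r3]
  have hd : ∀ X : Matrix I4 I4 F, X = X * e + X * f := fun X => by rw [← mul_add, h1, mul_one]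
  refine ⟨⟨s * e + r * f, (mem_iff _).2 (by rw [t2, t1])⟩, Subtype.ext t1, ?_, ?_⟩
  · rw [mul_inv_eq_iff_eq_mul]
    apply Subtype.ext
    show (s * e + r * f) * a = (a⁻¹ : Sp4 F) * (s * e + r * f)
    rw [coe_inv, mul_add, ← mul_assoc, ← mul_assoc, ← s4, ← r4, add_mul, mul_assoc, mul_assoc, hea, hfa, mul_assoc, mul_assoc]
  · show e * (s * e + r * f) = (s * e + r * f) * e
    rw [mul_add, add_mul, ← r3, ← mul_assoc e f, hef, zero_mul, r3, mul_assoc r, hfe, mul_zero, ← mul_assoc, s3]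

section graph

variable {α : MulAut (Sp4 F)}

theorem exists_tor (hα : ∀ y, c1 (α y) = 0 ↔ c2 y = 0) {A : Subgroup (Sp4 F)} (hA : A ≠ ⊥)
    (hcomm : ∀ a ∈ A, ∀ b ∈ A, a * b = b * a) (hodd : ∀ a ∈ A, Odd (orderOf a)) (hinv : ∀ a, α a ∈ A ↔ a ∈ A) :
    ∃ w c d z t, Tor w c d z t (Subgroup.centralizer (A : Set (Sp4 F))) := by
  have hle : ∀ a ∈ A, a ∈ Subgroup.centralizer (A : Set (Sp4 F)) := fun a ha b hb => hcomm b hb a ha
  by_cases hex : ∃ a ∈ A, c1 a * c2 a ≠ 0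
  · obtain ⟨a, ha, h1⟩ := hex
    obtain ⟨t, ht⟩ := tor_reg ⟨left_ne_zero_of_mul h1, right_ne_zero_of_mul h1⟩ (hle a ha) fun s hs => (hs a ha).symm
    exact ⟨_, _, _, _, t, ht⟩
  push Not at hex
  obtain ⟨a₀, ha₀, ha₀1⟩ : ∃ a ∈ A, a ≠ 1 := by
    obtain ⟨a, h⟩ := Subgroup.ne_bot_iff_exists_ne_one.1 hA
    exact ⟨a.1, a.2, fun h' => h (Subtype.ext h')⟩
  obtain ⟨a, b, ha, hb, ha1, hb1, h1a, h2b⟩ : ∃ a b : Sp4 F, a ∈ A ∧ b ∈ A ∧ a ≠ 1 ∧ b ≠ 1 ∧ c1 a = 0 ∧ c2 b = 0 := by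
    rcases mul_eq_zero.1 (hex a₀ ha₀) with h4 | h4
    · obtain ⟨b, rfl⟩ := α.surjective a₀
      exact ⟨α b, b, ha₀, (hinv b).1 ha₀, ha₀1, fun h => ha₀1 (by rw [h, map_one]), h4, (hα b).1 h4⟩
    · exact ⟨α a₀, a₀, (hinv _).2 ha₀, ha₀, by rwa [Ne, map_eq_one_iff _ α.injective], ha₀1, (hα _).2 h4, h4⟩
  have hE := exc_of (hcomm a ha b hb) (hodd a ha) (hodd b hb) (hodd _ (mul_mem ha hb)) (hodd _ (mul_mem ha (inv_mem hb)))
    ha1 hb1 h1a h2b (hex _ (mul_mem ha hb)) (hex _ (mul_mem ha (inv_mem hb)))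
  obtain ⟨t, ht⟩ := tor_exc hE (hle a ha) fun s hs => ⟨(hs a ha).symm, (hs b hb).symm⟩
  exact ⟨_, _, _, _, t, ht⟩

/-- the centraliser of the inverting involution is a `2`-group -/
theorem Tor.cent {w : Matrix I4 I4 F} {c d : F} {z t : Sp4 F} {S : Subgroup (Sp4 F)} (h : Tor w c d z t S)
    (hα : ∀ y, c1 (α y) = 0 ↔ c2 y = 0) (hS : ∀ s ∈ S, α s ∈ S) {y : Sp4 F} (hy : Odd (orderOf y))
    (hyt : t * y = y * t) : y = 1 := by
  by_contra hy1
  by_cases h2 : c2 y = 0
  · exact h.z2 (c2_of_inv hy hy1 h2 h.tt hyt h.tz)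
  by_cases h1 : c1 y = 0
  swap
  · exact h.ne_one (eq_one_of_sq ⟨h1, h2⟩ hyt h.tt)
  obtain ⟨y, rfl⟩ := α.surjective y
  obtain ⟨t, rfl⟩ := α.surjective t
  refine h.z2 (c2_of_inv (y := y) (t := t) (by rwa [MulEquiv.orderOf_eq] at hy) (fun e => hy1 (by rw [e, map_one]))
    ((hα y).1 h1) (α.injective ?_) (α.injective ?_) (α.injective ?_))
  · rw [map_mul, map_one, h.tt]
  · rw [map_mul, map_mul, hyt]
  · rw [map_mul, map_mul, map_inv, map_inv, h.inv (hS z h.zS)]

theorem card_cent (hq : 4 ≤ Nat.card F) {t : Sp4 F} (h : ∀ y : Sp4 F, Odd (orderOf y) → t * y = y * t → y = 1) :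
    Nat.card (Subgroup.centralizer {t}) ≤ Nat.card F ^ 4 := by
  have := Fintype.ofFinite F
  have h2 : 2 ∣ Nat.card F := by
    obtain ⟨n, -, hn⟩ := FiniteField.card F 2
    rw [Nat.card_eq_fintype_card, hn]
    exact dvd_pow_self 2 n.ne_zero
  have h3 : ∀ k, k ≠ 0 → Odd (Nat.card F ^ k - 1) := fun k hk =>
    Nat.Even.sub_odd (Nat.one_le_pow _ _ (by omega)) ((even_iff_two_dvd.2 h2).pow_of_ne_zero hk) odd_one
  have h4 := Subgroup.card_subgroup_dvd_card (Subgroup.centralizer {t})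
  rw [card_sp] at h4
  refine Nat.le_of_dvd (by positivity) (Nat.Coprime.dvd_of_dvd_mul_right (Nat.coprime_of_dvd fun p hp h5 h6 => ?_) h4)
  have := Fact.mk hp
  obtain ⟨y, hy⟩ := exists_prime_orderOf_dvd_card' p h5
  have h7 : orderOf (y : Sp4 F) = p := by rw [Subgroup.orderOf_coe, hy]
  have h8 := h y (h7 ▸ ((h3 2 two_ne_zero).mul (h3 4 (by norm_num))).of_dvd_nat h6)
    (Subgroup.mem_centralizer_singleton_iff.1 y.2).symm
  rw [h8, orderOf_one] at h7
  exact hp.one_lt.ne h7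

/-- the local case inside `Sp₄(F)` -/
theorem loc_core (hq : 4 ≤ Nat.card F) (hα : ∀ y, c1 (α y) = 0 ↔ c2 y = 0) {A : Subgroup (Sp4 F)} (hA : A ≠ ⊥)
    (hcomm : ∀ a ∈ A, ∀ b ∈ A, a * b = b * a) (hodd : ∀ a ∈ A, Odd (orderOf a)) (hinv : ∀ a, α a ∈ A ↔ a ∈ A) :
    ∃ t : Sp4 F, t ≠ 1 ∧ t * t = 1 ∧
      (∀ s ∈ Subgroup.centralizer (A : Set (Sp4 F)), t * s * t⁻¹ = s⁻¹ ∧ Odd (orderOf s)) ∧
      (∀ y : Sp4 F, Odd (orderOf y) → t * y = y * t → y = 1) ∧
      Nat.card (Subgroup.centralizer (A : Set (Sp4 F))) ^ 2 < (Subgroup.centralizer {t}).index := by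
  obtain ⟨w, c, d, z, t, h⟩ := exists_tor hα hA hcomm hodd hinv
  have h1 : ∀ y : Sp4 F, Odd (orderOf y) → t * y = y * t → y = 1 := fun y hy hyt => h.cent hα (fun s hs a ha => by
    obtain ⟨a, rfl⟩ := α.surjective a
    rw [← map_mul, ← map_mul, hs a ((hinv a).1 ha)]) hy hyt
  refine ⟨t, h.ne_one, h.tt, fun s hs => ⟨h.inv hs, h.odd hs⟩, h1, ?_⟩
  have h2 := card_cent hq h1
  have h3 := h.card hq
  have h4 := (Subgroup.centralizer {t}).card_mul_index
  rw [card_sp] at h4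
  generalize Nat.card (Subgroup.centralizer (A : Set (Sp4 F))) = σ at *
  generalize Nat.card (Subgroup.centralizer {t}) = k at *
  generalize (Subgroup.centralizer {t}).index = n at *
  generalize Nat.card F = q at *
  have h5 : (q ^ 2 - 1) * (q ^ 4 - 1) ≤ n :=
    Nat.le_of_mul_le_mul_left (h4 ▸ Nat.mul_le_mul_right n h2) (by positivity : 0 < q ^ 4)
  by_contra h6
  have h7 : (q ^ 2 - 1) * (q ^ 4 - 1) * ((q - 1) * 2) ^ 2 ≤ (q ^ 4) ^ 2 :=
    calc _ ≤ σ ^ 2 * ((q - 1) * 2) ^ 2 := Nat.mul_le_mul_right _ (by omega)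
      _ = (σ * ((q - 1) * 2)) ^ 2 := by ring
      _ ≤ _ := Nat.pow_le_pow_left h3 2
  have e2 : 4 ^ 2 ≤ q ^ 2 := Nat.pow_le_pow_left hq 2
  have e4 : 4 ^ 4 ≤ q ^ 4 := Nat.pow_le_pow_left hq 4
  have h8 : (15 * q ^ 2) * (255 * q ^ 4) * (3 * q) ^ 2 ≤ (16 * (q ^ 2 - 1)) * (256 * (q ^ 4 - 1)) * (2 * ((q - 1) * 2)) ^ 2 :=
    Nat.mul_le_mul (Nat.mul_le_mul (by omega) (by omega)) (Nat.pow_le_pow_left (by omega) 2)
  have h9 : (15 * q ^ 2) * (255 * q ^ 4) * (3 * q) ^ 2 = 34425 * (q ^ 4) ^ 2 := by ring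
  have h10 : (16 * (q ^ 2 - 1)) * (256 * (q ^ 4 - 1)) * (2 * ((q - 1) * 2)) ^ 2 =
    16384 * ((q ^ 2 - 1) * (q ^ 4 - 1) * ((q - 1) * 2) ^ 2) := by ring
  have h11 : 0 < (q ^ 4) ^ 2 := by positivity
  omega

end graph

end Cfsg.Agent.TH.Cl.B2
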